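import Cfsg.Agent.Lib.CosetEnum.Fi22O73.DefsPart0
import Cfsg.Agent.Lib.CosetEnum.Fi22O73.DefsPart1
import Cfsg.Agent.Lib.CosetEnum.Fi22O73.StepsPart0
import Cfsg.Agent.Lib.CosetEnum.Fi22O73.StepsPart1
import Cfsg.Agent.Lib.CosetEnum.Fi22O73.StepsPart2
import Cfsg.Agent.Lib.CosetEnum.Fi22O73.StepsPart3
import Cfsg.Agent.Lib.CosetEnum.Fi22O73.StepsPart4
import Cfsg.Agent.Lib.CosetEnum.Fi22O73.StepsPart5
import Cfsg.Agent.Lib.CosetEnum.Fi22O73.StepsPart6
import Cfsg.Agent.Lib.CosetEnum.Fi22O73.StepsPart7
import Cfsg.Agent.Lib.CosetEnum.Fi22O73.StepsPart8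
import Cfsg.Agent.Lib.CosetEnum.Fi22O73.StepsPart9
import Cfsg.Agent.Lib.CosetEnum.Fi22O73.StepsPart10
import Cfsg.Agent.Lib.CosetEnum.Fi22O73.StepsPart11
import Cfsg.Agent.Lib.CosetEnum.Fi22O73.StepsPart12
import Cfsg.Agent.Lib.CosetEnum.Fi22O73.StepsPart13
import Cfsg.Agent.Lib.CosetEnum.Fi22O73.StepsPart14
import Cfsg.Agent.Lib.CosetEnum.Fi22O73.StepsPart15
import Cfsg.Agent.Lib.CosetEnum.Fi22O73.StepsPart16
import Cfsg.Agent.Lib.CosetEnum.Fi22O73.StepsPart17
import Cfsg.Agent.Lib.CosetEnum.Fi22O73.StepsPart18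
import Cfsg.Agent.Lib.CosetEnum.Fi22O73.StepsPart19
import Cfsg.Agent.Lib.CosetEnum.Fi22O73.ClosedPart0
import Cfsg.Agent.Lib.CosetEnum.Fi22O73.ClosedPart1
import Cfsg.Agent.Lib.CosetEnum.Fi22O73.PermPart0
import Cfsg.Agent.Lib.CosetEnum.Fi22O73.PermPart1
import Cfsg.Agent.Lib.CosetEnum.Fi22O73.PermPart2
import Cfsg.Agent.Lib.CosetEnum.Fi22O73.PermPart3
import Cfsg.Agent.Lib.CosetEnum.Fi22O73.PermPart4
import Cfsg.Agent.Lib.CosetEnum.Fi22O73.PermPart5
import Cfsg.Agent.Lib.CosetEnum.Fi22O73.PermPart6
import Cfsg.Agent.Lib.CosetEnum.Fi22O73.PermPart7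

/-! Generated certificate. -/

set_option autoImplicit false
set_option maxRecDepth 20000

namespace Cfsg.Lib.CosetEnum.Fi22O73

theorem cert_valid : cert.Valid where
  valid :=
    { pos := by decide +kernel
      shifts := by decide +kernel
      defs := (defsOK_append (a := 8000) (b := 8323) (defsOK_append (a := 4000) (b := 4000) defs_0 defs_1) (defsOK_append (a := 4000) (b := 4323) defs_2 (defsOK_append (a := 4000) (b := 323) defs_3 defs_4)))
      steps := (stepsOK_append (m := 28500) (n := 29129) (stepsOK_append (m := 13500) (n := 15000) (stepsOK_append (m := 6000) (n := 7500) (stepsOK_append (m := 3000) (n := 3000) (stepsOK_append (m := 1500) (n := 1500) steps_0 steps_1) (stepsOK_append (m := 1500) (n := 1500) steps_2 steps_3)) (stepsOK_append (m := 3000) (n := 4500) (stepsOK_append (m := 1500) (n := 1500) steps_4 steps_5) (stepsOK_append (m := 1500) (n := 3000) steps_6 (stepsOK_append (m := 1500) (n := 1500) steps_7 steps_8)))) (stepsOK_append (m := 7500) (n := 7500) (stepsOK_append (m := 3000) (n :=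 4500) (stepsOK_append (m := 1500) (n := 1500) steps_9 steps_10) (stepsOK_append (m := 1500) (n := 3000) steps_11 (stepsOK_append (m := 1500) (n := 1500) steps_12 steps_13))) (stepsOK_append (m := 3000) (n := 4500) (stepsOK_append (m := 1500) (n := 1500) steps_14 steps_15) (stepsOK_append (m := 1500) (n := 3000) steps_16 (stepsOK_append (m := 1500) (n := 1500) steps_17 steps_18))))) (stepsOK_append (m := 15000) (n := 14129) (stepsOK_append (m := 7500) (n := 7500) (stepsOK_append (m := 3000) (n := 4500) (stepsOK_append (m := 1500) (n := 1500) steps_19 steps_20) (stepsOK_append (m := 1500) (n := 3000) steps_21 (stepsOK_append (m := 1500) (n := 1500) steps_22 steps_23))) (stepsOK_append (m := 3000) (n := 4500) (stepsOK_append (m := 1500) (n := 1500) steps_24 steps_25) (stepsOK_append (m := 1500) (n := 3000) steps_26 (stepsOK_append (m := 1500) (n := 1500) steps_27 steps_28)))) (stepsOK_append (m := 7500) (n := 6629) (stepsOK_append (m := 3000) (n := 4500) (stepsOK_append (m := 1500) (n := 1500) steps_29 steps_30)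 (stepsOK_append (m := 1500) (n := 3000) steps_31 (stepsOK_append (m := 1500) (n := 1500) steps_32 steps_33))) (stepsOK_append (m := 3000) (n := 3629) (stepsOK_append (m := 1500) (n := 1500) steps_34 steps_35) (stepsOK_append (m := 1500) (n := 2129) steps_36 (stepsOK_append (m := 1500) (n := 629) steps_37 steps_38))))))
      closed := (closedOK_append (a := 8000) (b := 6080) (closedOK_append (a := 4000) (b := 4000) closed_0 closed_1) (closedOK_append (a := 4000) (b := 2080) closed_2 closed_3)) }
  pos := by decide +kernel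
  halves := by decide +kernel
  perm := (permOK_append (a := 7200) (b := 6880) (permOK_append (a := 3600) (b := 3600) (permOK_append (a := 1800) (b := 1800) (permOK_append (a := 900) (b := 900) perm_0 perm_1) (permOK_append (a := 900) (b := 900) perm_2 perm_3)) (permOK_append (a := 1800) (b := 1800) (permOK_append (a := 900) (b := 900) perm_4 perm_5) (permOK_append (a := 900) (b := 900) perm_6 perm_7))) (permOK_append (a := 3600) (b := 3280) (permOK_append (a := 1800) (b := 1800) (permOK_append (a := 900) (b := 900) perm_8 perm_9) (permOK_append (a := 900) (b := 900) perm_10 perm_11)) (permOK_append (a := 1800) (b := 1480) (permOK_append (a := 900) (b := 900) perm_12 perm_13) (permOK_append (a := 900) (b := 580) perm_14 perm_15))))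
  tree := by decide +kernel
  fix := by decide +kernel

end Cfsg.Lib.CosetEnum.Fi22O73
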